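/-
The tests on a range of points.
-/
import Cfsg.Agent.Lib.Spor.Fi24Pres.Test

namespace CfsgLib.Spor.Fi24

open CfsgLib.Spor.TC

set_option maxRecDepth 100000 in
theorem range0 : RangeTest pointTest 0 1000 :=
  RangeTest.of_check (by decide +kernel)

set_option maxRecDepth 100000 in
theorem range1000 : RangeTest pointTest 1000 2000 :=
  RangeTest.of_check (by decide +kernel)

set_option maxRecDepth 100000 in
theorem range2000 : RangeTest pointTest 2000 3000 :=
  RangeTest.of_check (by decide +kernel)

set_option maxRecDepth 100000 in
theorem range3000 : RangeTest pointTest 3000 4000 :=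
  RangeTest.of_check (by decide +kernel)

set_option maxRecDepth 100000 in
theorem range4000 : RangeTest pointTest 4000 5000 :=
  RangeTest.of_check (by decide +kernel)

end CfsgLib.Spor.Fi24
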