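/-
The tests on a range of points.
-/
import Cfsg.Agent.Lib.Spor.Fi24Pres.Test

namespace CfsgLib.Spor.Fi24

open CfsgLib.Spor.TC

set_option maxRecDepth 100000 in
theorem range95000 : RangeTest pointTest 95000 96000 :=
  RangeTest.of_check (by decide +kernel)

set_option maxRecDepth 100000 in
theorem range96000 : RangeTest pointTest 96000 97000 :=
  RangeTest.of_check (by decide +kernel)

set_option maxRecDepth 100000 in
theorem range97000 : RangeTest pointTest 97000 98000 :=
  RangeTest.of_check (by decide +kernel)

set_option maxRecDepth 100000 in
theorem range98000 : RangeTest pointTest 98000 99000 :=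
  RangeTest.of_check (by decide +kernel)

set_option maxRecDepth 100000 in
theorem range99000 : RangeTest pointTest 99000 100000 :=
  RangeTest.of_check (by decide +kernel)

end CfsgLib.Spor.Fi24
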