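/-
The tests on a range of points.
-/
import Cfsg.Agent.Lib.Spor.Fi24Pres.Test

namespace CfsgLib.Spor.Fi24

open CfsgLib.Spor.TC

set_option maxRecDepth 100000 in
theorem range105000 : RangeTest pointTest 105000 106000 :=
  RangeTest.of_check (by decide +kernel)

set_option maxRecDepth 100000 in
theorem range106000 : RangeTest pointTest 106000 107000 :=
  RangeTest.of_check (by decide +kernel)

set_option maxRecDepth 100000 in
theorem range107000 : RangeTest pointTest 107000 108000 :=
  RangeTest.of_check (by decide +kernel)

set_option maxRecDepth 100000 in
theorem range108000 : RangeTest pointTest 108000 109000 :=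
  RangeTest.of_check (by decide +kernel)

set_option maxRecDepth 100000 in
theorem range109000 : RangeTest pointTest 109000 110000 :=
  RangeTest.of_check (by decide +kernel)

end CfsgLib.Spor.Fi24
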