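/-
The tests on a range of points.
-/
import Cfsg.Agent.Lib.Spor.Fi24Pres.Test

namespace CfsgLib.Spor.Fi24

open CfsgLib.Spor.TC

set_option maxRecDepth 100000 in
theorem range110000 : RangeTest pointTest 110000 111000 :=
  RangeTest.of_check (by decide +kernel)

set_option maxRecDepth 100000 in
theorem range111000 : RangeTest pointTest 111000 112000 :=
  RangeTest.of_check (by decide +kernel)

set_option maxRecDepth 100000 in
theorem range112000 : RangeTest pointTest 112000 113000 :=
  RangeTest.of_check (by decide +kernel)

set_option maxRecDepth 100000 in
theorem range113000 : RangeTest pointTest 113000 114000 :=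
  RangeTest.of_check (by decide +kernel)

set_option maxRecDepth 100000 in
theorem range114000 : RangeTest pointTest 114000 115000 :=
  RangeTest.of_check (by decide +kernel)

end CfsgLib.Spor.Fi24
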