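/-
The tests on a range of points.
-/
import Cfsg.Agent.Lib.Spor.Fi24Pres.Test

namespace CfsgLib.Spor.Fi24

open CfsgLib.Spor.TC

set_option maxRecDepth 100000 in
theorem range145000 : RangeTest pointTest 145000 146000 :=
  RangeTest.of_check (by decide +kernel)

set_option maxRecDepth 100000 in
theorem range146000 : RangeTest pointTest 146000 147000 :=
  RangeTest.of_check (by decide +kernel)

set_option maxRecDepth 100000 in
theorem range147000 : RangeTest pointTest 147000 148000 :=
  RangeTest.of_check (by decide +kernel)

set_option maxRecDepth 100000 in
theorem range148000 : RangeTest pointTest 148000 149000 :=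
  RangeTest.of_check (by decide +kernel)

set_option maxRecDepth 100000 in
theorem range149000 : RangeTest pointTest 149000 150000 :=
  RangeTest.of_check (by decide +kernel)

end CfsgLib.Spor.Fi24
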