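/-
The tests on a range of points.
-/
import Cfsg.Agent.Lib.Spor.Fi24Pres.Test

namespace CfsgLib.Spor.Fi24

open CfsgLib.Spor.TC

set_option maxRecDepth 100000 in
theorem range200000 : RangeTest pointTest 200000 201000 :=
  RangeTest.of_check (by decide +kernel)

set_option maxRecDepth 100000 in
theorem range201000 : RangeTest pointTest 201000 202000 :=
  RangeTest.of_check (by decide +kernel)

set_option maxRecDepth 100000 in
theorem range202000 : RangeTest pointTest 202000 203000 :=
  RangeTest.of_check (by decide +kernel)

set_option maxRecDepth 100000 in
theorem range203000 : RangeTest pointTest 203000 204000 :=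
  RangeTest.of_check (by decide +kernel)

set_option maxRecDepth 100000 in
theorem range204000 : RangeTest pointTest 204000 205000 :=
  RangeTest.of_check (by decide +kernel)

end CfsgLib.Spor.Fi24
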