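/-
The tests on a range of points.
-/
import Cfsg.Agent.Lib.Spor.Fi24Pres.Test

namespace CfsgLib.Spor.Fi24

open CfsgLib.Spor.TC

set_option maxRecDepth 100000 in
theorem range260000 : RangeTest pointTest 260000 261000 :=
  RangeTest.of_check (by decide +kernel)

set_option maxRecDepth 100000 in
theorem range261000 : RangeTest pointTest 261000 262000 :=
  RangeTest.of_check (by decide +kernel)

set_option maxRecDepth 100000 in
theorem range262000 : RangeTest pointTest 262000 263000 :=
  RangeTest.of_check (by decide +kernel)

set_option maxRecDepth 100000 in
theorem range263000 : RangeTest pointTest 263000 264000 :=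
  RangeTest.of_check (by decide +kernel)

set_option maxRecDepth 100000 in
theorem range264000 : RangeTest pointTest 264000 265000 :=
  RangeTest.of_check (by decide +kernel)

end CfsgLib.Spor.Fi24
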