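/-
The tests on a range of points.
-/
import Cfsg.Agent.Lib.Spor.Fi24Pres.Test

namespace CfsgLib.Spor.Fi24

open CfsgLib.Spor.TC

set_option maxRecDepth 100000 in
theorem range30000 : RangeTest pointTest 30000 31000 :=
  RangeTest.of_check (by decide +kernel)

set_option maxRecDepth 100000 in
theorem range31000 : RangeTest pointTest 31000 32000 :=
  RangeTest.of_check (by decide +kernel)

set_option maxRecDepth 100000 in
theorem range32000 : RangeTest pointTest 32000 33000 :=
  RangeTest.of_check (by decide +kernel)

set_option maxRecDepth 100000 in
theorem range33000 : RangeTest pointTest 33000 34000 :=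
  RangeTest.of_check (by decide +kernel)

set_option maxRecDepth 100000 in
theorem range34000 : RangeTest pointTest 34000 35000 :=
  RangeTest.of_check (by decide +kernel)

end CfsgLib.Spor.Fi24
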