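/-
The tests on a range of points.
-/
import Cfsg.Agent.Lib.Spor.Fi24Pres.Test

namespace CfsgLib.Spor.Fi24

open CfsgLib.Spor.TC

set_option maxRecDepth 100000 in
theorem range305000 : RangeTest pointTest 305000 306000 :=
  RangeTest.of_check (by decide +kernel)

set_option maxRecDepth 100000 in
theorem range306000 : RangeTest pointTest 306000 306936 :=
  RangeTest.of_check (by decide +kernel)

end CfsgLib.Spor.Fi24
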