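/-
The tests on all points.
-/
import Cfsg.Agent.Lib.Spor.Fi24Pres.Range.Part0
import Cfsg.Agent.Lib.Spor.Fi24Pres.Range.Part1
import Cfsg.Agent.Lib.Spor.Fi24Pres.Range.Part2
import Cfsg.Agent.Lib.Spor.Fi24Pres.Range.Part3
import Cfsg.Agent.Lib.Spor.Fi24Pres.Range.Part4
import Cfsg.Agent.Lib.Spor.Fi24Pres.Range.Part5
import Cfsg.Agent.Lib.Spor.Fi24Pres.Range.Part6
import Cfsg.Agent.Lib.Spor.Fi24Pres.Range.Part7
import Cfsg.Agent.Lib.Spor.Fi24Pres.Range.Part8
import Cfsg.Agent.Lib.Spor.Fi24Pres.Range.Part9
import Cfsg.Agent.Lib.Spor.Fi24Pres.Range.Part10
import Cfsg.Agent.Lib.Spor.Fi24Pres.Range.Part11
import Cfsg.Agent.Lib.Spor.Fi24Pres.Range.Part12
import Cfsg.Agent.Lib.Spor.Fi24Pres.Range.Part13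
import Cfsg.Agent.Lib.Spor.Fi24Pres.Range.Part14
import Cfsg.Agent.Lib.Spor.Fi24Pres.Range.Part15
import Cfsg.Agent.Lib.Spor.Fi24Pres.Range.Part16
import Cfsg.Agent.Lib.Spor.Fi24Pres.Range.Part17
import Cfsg.Agent.Lib.Spor.Fi24Pres.Range.Part18
import Cfsg.Agent.Lib.Spor.Fi24Pres.Range.Part19
import Cfsg.Agent.Lib.Spor.Fi24Pres.Range.Part20
import Cfsg.Agent.Lib.Spor.Fi24Pres.Range.Part21
import Cfsg.Agent.Lib.Spor.Fi24Pres.Range.Part22
import Cfsg.Agent.Lib.Spor.Fi24Pres.Range.Part23
import Cfsg.Agent.Lib.Spor.Fi24Pres.Range.Part24
import Cfsg.Agent.Lib.Spor.Fi24Pres.Range.Part25
import Cfsg.Agent.Lib.Spor.Fi24Pres.Range.Part26
import Cfsg.Agent.Lib.Spor.Fi24Pres.Range.Part27
import Cfsg.Agent.Lib.Spor.Fi24Pres.Range.Part28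
import Cfsg.Agent.Lib.Spor.Fi24Pres.Range.Part29
import Cfsg.Agent.Lib.Spor.Fi24Pres.Range.Part30
import Cfsg.Agent.Lib.Spor.Fi24Pres.Range.Part31
import Cfsg.Agent.Lib.Spor.Fi24Pres.Range.Part32
import Cfsg.Agent.Lib.Spor.Fi24Pres.Range.Part33
import Cfsg.Agent.Lib.Spor.Fi24Pres.Range.Part34
import Cfsg.Agent.Lib.Spor.Fi24Pres.Range.Part35
import Cfsg.Agent.Lib.Spor.Fi24Pres.Range.Part36
import Cfsg.Agent.Lib.Spor.Fi24Pres.Range.Part37
import Cfsg.Agent.Lib.Spor.Fi24Pres.Range.Part38
import Cfsg.Agent.Lib.Spor.Fi24Pres.Range.Part39
import Cfsg.Agent.Lib.Spor.Fi24Pres.Range.Part40
import Cfsg.Agent.Lib.Spor.Fi24Pres.Range.Part41
import Cfsg.Agent.Lib.Spor.Fi24Pres.Range.Part42
import Cfsg.Agent.Lib.Spor.Fi24Pres.Range.Part43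
import Cfsg.Agent.Lib.Spor.Fi24Pres.Range.Part44
import Cfsg.Agent.Lib.Spor.Fi24Pres.Range.Part45
import Cfsg.Agent.Lib.Spor.Fi24Pres.Range.Part46
import Cfsg.Agent.Lib.Spor.Fi24Pres.Range.Part47
import Cfsg.Agent.Lib.Spor.Fi24Pres.Range.Part48
import Cfsg.Agent.Lib.Spor.Fi24Pres.Range.Part49
import Cfsg.Agent.Lib.Spor.Fi24Pres.Range.Part50
import Cfsg.Agent.Lib.Spor.Fi24Pres.Range.Part51
import Cfsg.Agent.Lib.Spor.Fi24Pres.Range.Part52
import Cfsg.Agent.Lib.Spor.Fi24Pres.Range.Part53
import Cfsg.Agent.Lib.Spor.Fi24Pres.Range.Part54
import Cfsg.Agent.Lib.Spor.Fi24Pres.Range.Part55
import Cfsg.Agent.Lib.Spor.Fi24Pres.Range.Part56
import Cfsg.Agent.Lib.Spor.Fi24Pres.Range.Part57
import Cfsg.Agent.Lib.Spor.Fi24Pres.Range.Part58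
import Cfsg.Agent.Lib.Spor.Fi24Pres.Range.Part59
import Cfsg.Agent.Lib.Spor.Fi24Pres.Range.Part60
import Cfsg.Agent.Lib.Spor.Fi24Pres.Range.Part61

namespace CfsgLib.Spor.Fi24

open CfsgLib.Spor.TC

set_option maxRecDepth 100000 in
theorem all_points : RangeTest pointTest 0 306936 :=
  ((((((((range0.append range1000).append (range2000.append range3000)).append ((range4000.append range5000).append (range6000.append (range7000.append range8000)))).append (((range9000.append range10000).append (range11000.append (range12000.append range13000))).append ((range14000.append range15000).append (range16000.append (range17000.append range18000))))).append ((((range19000.append range20000).append (range21000.append range22000)).append ((range23000.append range24000).append (range25000.append (range26000.append range27000)))).append (((range28000.append range29000).append (range30000.append (range31000.append range32000))).append ((range33000.append range34000).append (range35000.append (range36000.append range37000)))))).append (((((range38000.append range39000).append (range40000.append range41000)).append ((range42000.append range43000).append (range44000.append (range45000.append range46000)))).append (((range47000.append range48000).append (range49000.append (range50000.append range51000))).append ((range52000.append range53000).append (range54000.append (range55000.append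 range56000))))).append ((((range57000.append range58000).append (range59000.append range60000)).append ((range61000.append range62000).append (range63000.append (range64000.append range65000)))).append (((range66000.append range67000).append (range68000.append (range69000.append range70000))).append ((range71000.append range72000).append (range73000.append (range74000.append range75000))))))).append ((((((range76000.append range77000).append (range78000.append range79000)).append ((range80000.append range81000).append (range82000.append (range83000.append range84000)))).append (((range85000.append range86000).append (range87000.append (range88000.append range89000))).append ((range90000.append range91000).append (range92000.append (range93000.append range94000))))).append ((((range95000.append range96000).append (range97000.append range98000)).append ((range99000.append range100000).append (range101000.append (range102000.append range103000)))).append (((range104000.append range105000).append (range106000.append (range107000.append range108000))).append ((range109000.append range110000).append (range111000.append (range112000.append range113000)))))).append (((((range114000.append range115000).append (range116000.append range117000)).append ((range118000.append range119000).append (range120000.append (range121000.append range122000)))).append (((range123000.append range124000).append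 (range125000.append (range126000.append range127000))).append ((range128000.append range129000).append (range130000.append (range131000.append range132000))))).append ((((range133000.append range134000).append (range135000.append (range136000.append range137000))).append ((range138000.append range139000).append (range140000.append (range141000.append range142000)))).append (((range143000.append range144000).append (range145000.append (range146000.append range147000))).append ((range148000.append range149000).append (range150000.append (range151000.append range152000)))))))).append (((((((range153000.append range154000).append (range155000.append range156000)).append ((range157000.append range158000).append (range159000.append (range160000.append range161000)))).append (((range162000.append range163000).append (range164000.append (range165000.append range166000))).append ((range167000.append range168000).append (range169000.append (range170000.append range171000))))).append ((((range172000.append range173000).append (range174000.append range175000)).append ((range176000.append range177000).append (range178000.append (range179000.append range180000)))).append (((range181000.append range182000).append (range183000.append (range184000.append range185000))).append ((range186000.append range187000).append (range188000.append (range189000.append range190000)))))).append (((((range191000.append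 range192000).append (range193000.append range194000)).append ((range195000.append range196000).append (range197000.append (range198000.append range199000)))).append (((range200000.append range201000).append (range202000.append (range203000.append range204000))).append ((range205000.append range206000).append (range207000.append (range208000.append range209000))))).append ((((range210000.append range211000).append (range212000.append (range213000.append range214000))).append ((range215000.append range216000).append (range217000.append (range218000.append range219000)))).append (((range220000.append range221000).append (range222000.append (range223000.append range224000))).append ((range225000.append range226000).append (range227000.append (range228000.append range229000))))))).append ((((((range230000.append range231000).append (range232000.append range233000)).append ((range234000.append range235000).append (range236000.append (range237000.append range238000)))).append (((range239000.append range240000).append (range241000.append (range242000.append range243000))).append ((range244000.append range245000).append (range246000.append (range247000.append range248000))))).append ((((range249000.append range250000).append (range251000.append range252000)).append ((range253000.append range254000).append (range255000.append (range256000.append range257000)))).append (((range258000.append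 range259000).append (range260000.append (range261000.append range262000))).append ((range263000.append range264000).append (range265000.append (range266000.append range267000)))))).append (((((range268000.append range269000).append (range270000.append range271000)).append ((range272000.append range273000).append (range274000.append (range275000.append range276000)))).append (((range277000.append range278000).append (range279000.append (range280000.append range281000))).append ((range282000.append range283000).append (range284000.append (range285000.append range286000))))).append ((((range287000.append range288000).append (range289000.append (range290000.append range291000))).append ((range292000.append range293000).append (range294000.append (range295000.append range296000)))).append (((range297000.append range298000).append (range299000.append (range300000.append range301000))).append ((range302000.append range303000).append (range304000.append (range305000.append range306000)))))))))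

end CfsgLib.Spor.Fi24
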