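/-
The tests on a range of points.
-/
import Cfsg.Agent.Lib.Spor.Fi24Pres.Test

namespace CfsgLib.Spor.Fi24

open CfsgLib.Spor.TC

set_option maxRecDepth 100000 in
theorem range140000 : RangeTest pointTest 140000 141000 :=
  RangeTest.of_check (by decide +kernel)

set_option maxRecDepth 100000 in
theorem range141000 : RangeTest pointTest 141000 142000 :=
  RangeTest.of_check (by decide +kernel)

set_option maxRecDepth 100000 in
theorem range142000 : RangeTest pointTest 142000 143000 :=
  RangeTest.of_check (by decide +kernel)

set_option maxRecDepth 100000 in
theorem range143000 : RangeTest pointTest 143000 144000 :=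
  RangeTest.of_check (by decide +kernel)

set_option maxRecDepth 100000 in
theorem range144000 : RangeTest pointTest 144000 145000 :=
  RangeTest.of_check (by decide +kernel)

end CfsgLib.Spor.Fi24
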